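import Cfsg.Agent.Lib.CosetEnum.Defs

/-!
# Permutations of a range of size `2 ^ 19` as switching networks on bit sets: the checks

A set of points is a number with the points as its bits. A stage exchanges the bits `i`, `i + 2 ^ s`
for the bits `i` of a mask; a permutation is given by 37 stages, packed in 19 numbers. All checks
only use arithmetic on numbers, so the kernel evaluates them quickly.
-/

set_option autoImplicit false

namespace Cfsg.Lib.BigPerm

open Cfsg.Lib.CosetEnum (force beqW)

/-- The exponent of the number of points. -/
def wExp : Nat := 19

/-- The set of the points below `n`. -/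
noncomputable def below (n : Nat) : Nat := Nat.sub (Nat.pow 2 n) 1

/-- Double a periodic pattern a number of times, starting with period `2 ^ m`. -/
noncomputable def dbl : Nat → Nat → Nat → Nat
  | 0, _, x => x
  | j + 1, m, x => force (Nat.lor x (Nat.shiftLeft x (Nat.pow 2 m))) fun y => dbl j (m + 1) y

/-- The points whose bit `s` is set. -/
noncomputable def idPlane (s : Nat) : Nat :=
  dbl (wExp - (s + 1)) (s + 1) (Nat.shiftLeft (below (Nat.pow 2 s)) (Nat.pow 2 s))

/-- The points whose bit `s` is clear. -/
noncomputable def zPlane (s : Nat) : Nat :=
  Nat.xor (below (Nat.pow 2 wExp)) (idPlane s)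

/-- One stage. -/
noncomputable def stage (s m x : Nat) : Nat :=
  Nat.xor (Nat.xor x (Nat.land (Nat.xor (Nat.shiftRight x (Nat.pow 2 s)) x) m))
    (Nat.shiftLeft (Nat.land (Nat.xor (Nat.shiftRight x (Nat.pow 2 s)) x) m) (Nat.pow 2 s))

/-- Apply stages, first one first. -/
noncomputable def runS (l : List (Nat × Nat)) : Nat → Nat :=
  List.rec (motive := fun _ => Nat → Nat) (fun x => x)
    (fun p _ ih x => force (stage p.1 p.2 x) ih) l

/-- The mask of the first pass. -/
noncomputable def maskA (s L : Nat) : Nat := Nat.land L (zPlane s)

/-- The mask of the second pass. -/
noncomputable def maskB (s L : Nat) : Nat := Nat.land (Nat.shiftRight L (Nat.pow 2 s)) (zPlane s)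

/-- The stages of a packed network, from bit `s`. -/
noncomputable def stagesFrom : Nat → List Nat → List (Nat × Nat)
  | _, [] => []
  | s, [L] => [(s, maskA s L)]
  | s, L :: rest => (s, maskA s L) :: (stagesFrom (s + 1) rest ++ [(s, maskB s L)])

/-- Act by one generator on a set. -/
noncomputable def runG (N : List (List Nat)) (g x : Nat) : Nat :=
  runS (stagesFrom 0 (N.getD g [])) x

/-- Act by a word on a set, first letter first. -/
noncomputable def runW (N : List (List Nat)) (w : List Nat) : Nat → Nat :=
  List.rec (motive := fun _ => Nat → Nat) (fun x => x)
    (fun g _ ih x => force (runG N g x) ih) w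

/-- One point. -/
noncomputable def point (i : Nat) : Nat := Nat.shiftLeft 1 i

/-- A word fixes one plane. -/
noncomputable def planeOK (N : List (List Nat)) (r : List Nat) (s : Nat) : Bool :=
  Nat.beq (runW N r (idPlane s)) (idPlane s)

/-- Some words fix one plane. -/
noncomputable def planesOK (N : List (List Nat)) (R : List (List Nat)) (s : Nat) : Bool :=
  R.all fun r => planeOK N r s

/-- One round of the closure of a set under words. -/
noncomputable def grow (N : List (List Nat)) : List (List Nat) → Nat → Nat
  | [], x => x
  | u :: U, x => force (Nat.lor x (runW N u x)) fun y => grow N U y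

/-- The closure of a set under words, up to a number of rounds. -/
noncomputable def reach (N : List (List Nat)) (U : List (List Nat)) : Nat → Nat → Nat
  | 0, x => x
  | m + 1, x => force (grow N U x) fun y => cond (Nat.beq y x) x (reach N U m y)

/-- The set is kept by all the words. -/
noncomputable def keepOK (N : List (List Nat)) (U : List (List Nat)) (x : Nat) : Bool :=
  U.all fun u => Nat.beq (runW N u x) x

/-- Numbers of bits of the bytes, packed by four bits. -/
noncomputable def byteCount (x : Nat) : Nat :=
  Nat.land (Nat.shiftRight
    0x8776766576656554766565546554544376656554655454436554544354434332766565546554544365545443544343326554544354434332544343324332322176656554655454436554544354434332655454435443433254434332433232216554544354434332544343324332322154434332433232214332322132212110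
    (Nat.mul 4 x)) 15

/-- The number of bits below `2 ^ m`. -/
noncomputable def count : Nat → Nat → Nat
  | 0, x => cond (Nat.beq x 0) 0 1
  | m + 1, x => force x fun y =>
    cond (Nat.beq y 0) 0
      (cond (Nat.beq y (below (Nat.pow 2 (m + 1)))) (Nat.pow 2 (m + 1))
        (cond (Nat.beq m 2) (byteCount y)
          (count m (Nat.land y (below (Nat.pow 2 m))) +
            count m (Nat.shiftRight y (Nat.pow 2 m)))))

/-- The set grown by some words contains a given set. -/
noncomputable def grownOK (N : List (List Nat)) (U : List (List Nat)) (S T : Nat) : Bool :=
  force T fun t => Nat.beq (Nat.land t (grow N U S)) t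

/-- A word is a product of words from a list and their reverses. -/
def composedOK (U : List (List Nat)) (u : List Nat) (s : List (Nat × Bool)) : Bool :=
  s.all (fun p => Nat.blt p.1 U.length) &&
    beqW u (s.map fun p => cond p.2 (U.getD p.1 []).reverse (U.getD p.1 [])).flatten

/-- Every word of the second list is composed from the first. -/
def composedAllOK : List (List Nat) → List (List Nat) → List (List (Nat × Bool)) → Bool
  | _, [], [] => true
  | U, u :: V, s :: ss => composedOK U u s && composedAllOK U V ss
  | _, _, _ => false

/-- A set with its number of points. -/
noncomputable def countOK (n x c : Nat) : Bool :=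
  Nat.ble n (Nat.pow 2 wExp) && Nat.beq (count wExp (Nat.land x (below n))) c

/-- The computed closure of a point is its orbit. -/
noncomputable def orbitOKb (N : List (List Nat)) (U : List (List Nat)) (m p : Nat) : Bool :=
  force (reach N U m (point p)) fun O => keepOK N U O && Nat.testBit O p

/-- Every network has at most as many numbers as there are bits. -/
def lensOK (N : List (List Nat)) : Bool := N.all fun l => Nat.ble l.length wExp

/-- Each generator keeps the points below `n`. -/
noncomputable def rangeOK (N : List (List Nat)) (n k : Nat) : Bool :=
  Nat.ble n (Nat.pow 2 wExp) && (List.range k).all fun g => Nat.beq (runG N g (below n)) (below n)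

/-- All letters are small. -/
def lettersOK (k : Nat) (U : List (List Nat)) : Bool := U.all fun u => u.all fun g => Nat.blt g k

end Cfsg.Lib.BigPerm
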