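import Mathlib
import Cfsg.Agent.Lib.CosetEnum.Simple
import Cfsg.Agent.Lib.BigPerm.Defs

/-!
# Soundness of switching networks on bit sets
-/

set_option autoImplicit false

namespace Cfsg.Lib.BigPerm

open Cfsg.Lib.CosetEnum (force force_eq wordVal gen eps)

theorem testBit_add_two_pow (i s : ℕ) : (i + 2 ^ s).testBit s = !i.testBit s := by
  rw [add_comm, Nat.testBit_two_pow_add_eq]

/-- The mask keeps to points whose bit `s` is clear. -/
def Good (s m : ℕ) : Prop := ∀ i, m.testBit i = true → i.testBit s = false ∧ i < 2 ^ wExp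

/-- The exchange of one stage. -/
def σ (s m i : ℕ) : ℕ :=
  if m.testBit i then i + 2 ^ s else if 2 ^ s ≤ i ∧ m.testBit (i - 2 ^ s) then i - 2 ^ s else i

theorem Good.shifted {s m : ℕ} (h : Good s m) {i : ℕ} (hi : m.testBit i = true) :
    m.testBit (i + 2 ^ s) = false := by
  by_contra hc
  rw [Bool.not_eq_false] at hc
  have := (h _ hc).1
  rw [testBit_add_two_pow, (h i hi).1] at this
  simp at this

theorem σ_σ {s m : ℕ} (h : Good s m) (i : ℕ) : σ s m (σ s m i) = i := by
  unfold σ
  by_cases h1 : m.testBit i = true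
  · simp [h1, h.shifted h1]
  · by_cases h2 : 2 ^ s ≤ i ∧ m.testBit (i - 2 ^ s) = true
    · simp [h1, h2, Nat.sub_add_cancel h2.1]
    · simp [h1, h2]

theorem σ_lt {s m : ℕ} (h : Good s m) (hs : s < wExp) {i : ℕ} (hi : i < 2 ^ wExp) :
    σ s m i < 2 ^ wExp := by
  unfold σ
  split
  · next h1 =>
    have hb := (h i h1).1
    have h3 : i + 2 ^ s = i ||| 2 ^ s := by
      refine Nat.eq_of_testBit_eq fun j => ?_
      rw [Nat.testBit_or, Nat.testBit_two_pow]
      rcases lt_trichotomy j s with hj | rfl | hj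
      · rw [Nat.add_comm i, Nat.testBit_two_pow_add_gt hj]; simp [hj.ne']
      · simp [testBit_add_two_pow, hb]
      · have hlt : i % 2 ^ (s + 1) + 2 ^ s < 2 ^ (s + 1) := by
          have h5 : i % 2 ^ (s + 1) < 2 ^ s := by
            refine Nat.lt_pow_two_of_testBit _ fun k hk => ?_
            rw [Nat.testBit_mod_two_pow]
            rcases hk.eq_or_lt with rfl | hk
            · simp [hb]
            · simp [show ¬ k < s + 1 by omega]
          omega
        have hdiv : (i + 2 ^ s) / 2 ^ (s + 1) = i / 2 ^ (s + 1) := by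
          conv_lhs => rw [← Nat.div_add_mod i (2 ^ (s + 1)), add_assoc]
          rw [Nat.mul_add_div (Nat.two_pow_pos _), Nat.div_eq_of_lt hlt, add_zero]
        obtain ⟨k, rfl⟩ : ∃ k, j = s + 1 + k := ⟨j - (s + 1), by omega⟩
        rw [show (i + 2 ^ s).testBit (s + 1 + k) = i.testBit (s + 1 + k) from ?_]
        · simp [show s ≠ s + 1 + k by omega]
        · rw [add_comm (s + 1) k, ← Nat.testBit_div_two_pow, ← Nat.testBit_div_two_pow, hdiv]
    rw [h3]
    exact Nat.or_lt_two_pow hi (Nat.pow_lt_pow_right (by norm_num) hs)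
  · split
    · exact (Nat.sub_le _ _).trans_lt hi
    · exact hi

theorem testBit_stage {s m : ℕ} (h : Good s m) (x i : ℕ) :
    (stage s m x).testBit i = x.testBit (σ s m i) := by
  change ((x ^^^ (((x >>> 2 ^ s) ^^^ x) &&& m)) ^^^ ((((x >>> 2 ^ s) ^^^ x) &&& m) <<< 2 ^ s)).testBit i = _
  simp only [Nat.testBit_xor, Nat.testBit_and, Nat.testBit_shiftLeft, Nat.testBit_shiftRight]
  unfold σ
  by_cases h1 : m.testBit i = true
  · have h2 : ¬ (2 ^ s ≤ i ∧ m.testBit (i - 2 ^ s) = true) := fun hc => by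
      have := h.shifted hc.2
      rw [Nat.sub_add_cancel hc.1, h1] at this
      simp at this
    rw [if_pos h1, h1, add_comm i (2 ^ s)]
    by_cases h3 : 2 ^ s ≤ i
    · have h4 : m.testBit (i - 2 ^ s) = false := by simpa using fun hc => h2 ⟨h3, hc⟩
      simp [h4]
      cases x.testBit i <;> cases x.testBit (2 ^ s + i) <;> rfl
    · simp [h3]
      cases x.testBit i <;> cases x.testBit (2 ^ s + i) <;> rfl
  · rw [Bool.not_eq_true] at h1
    rw [h1]
    by_cases h2 : 2 ^ s ≤ i ∧ m.testBit (i - 2 ^ s) = true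
    · rw [if_neg (by simp), if_pos h2, h2.2]
      simp [h2.1]
    · rw [if_neg (by simp), if_neg h2]
      by_cases h3 : 2 ^ s ≤ i
      · have h4 : m.testBit (i - 2 ^ s) = false := by simpa [h3] using h2
        simp [h4]
      · simp [h3]

/-- The permutation of a stage. -/
noncomputable def stagePerm (p : ℕ × ℕ) : Equiv.Perm ℕ :=
  open Classical in
  if h : Good p.1 p.2 then Function.Involutive.toPerm (σ p.1 p.2) (σ_σ h) else 1

/-- The permutation of some stages, first one first. -/
noncomputable def permS : List (ℕ × ℕ) → Equiv.Perm ℕ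
  | [] => 1
  | p :: l => permS l * stagePerm p

/-- The permutation of a generator. -/
noncomputable def permG (N : List (List ℕ)) (g : ℕ) : Equiv.Perm ℕ :=
  permS (stagesFrom 0 (N.getD g []))

theorem testBit_runS : ∀ {l : List (ℕ × ℕ)}, (∀ p ∈ l, Good p.1 p.2) → ∀ x i : ℕ,
    (runS l x).testBit i = x.testBit ((permS l)⁻¹ i)
  | [], _, x, i => rfl
  | p :: l, h, x, i => by
    show (force (stage p.1 p.2 x) (runS l)).testBit i = _
    have hp := h p (by simp)
    rw [force_eq, testBit_runS (fun q hq => h q (by simp [hq])), testBit_stage hp, permS,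
      mul_inv_rev, Equiv.Perm.mul_apply, stagePerm, dif_pos hp]
    rfl

theorem testBit_below (n i : ℕ) : (below n).testBit i = decide (i < n) :=
  Nat.testBit_two_pow_sub_one n i

theorem testBit_dbl {s : ℕ} : ∀ (j m x : ℕ), s < m →
    (∀ i, x.testBit i = (decide (i < 2 ^ m) && i.testBit s)) →
      ∀ i, (dbl j m x).testBit i = (decide (i < 2 ^ (m + j)) && i.testBit s)
  | 0, m, x, _, h, i => by simpa [dbl] using h i
  | j + 1, m, x, hm, h, i => by
    rw [dbl, force_eq, show m + (j + 1) = m + 1 + j by omega]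
    refine testBit_dbl j (m + 1) _ (by omega) (fun k => ?_) i
    change (x ||| x <<< 2 ^ m).testBit k = _
    rw [Nat.testBit_or, Nat.testBit_shiftLeft, h, h, pow_succ]
    by_cases h1 : k < 2 ^ m
    · simp [h1, show ¬ 2 ^ m ≤ k by omega, show k < 2 ^ m * 2 by omega]
    · obtain ⟨r, rfl⟩ : ∃ r, k = 2 ^ m + r := ⟨k - 2 ^ m, by omega⟩
      rw [Nat.testBit_two_pow_add_gt hm, Nat.add_sub_cancel_left]
      simp [h1, show (2 ^ m + r < 2 ^ m * 2) ↔ r < 2 ^ m by omega]

theorem testBit_idPlane {s : ℕ} (hs : s < wExp) (i : ℕ) :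
    (idPlane s).testBit i = (decide (i < 2 ^ wExp) && i.testBit s) := by
  rw [idPlane, testBit_dbl (s := s) (wExp - (s + 1)) (s + 1) _ (Nat.lt_succ_self s) (fun k => ?_),
    show s + 1 + (wExp - (s + 1)) = wExp by omega]
  change (below (2 ^ s) <<< 2 ^ s).testBit k = _
  rw [Nat.testBit_shiftLeft, testBit_below, pow_succ]
  by_cases h1 : k < 2 ^ s
  · simp [show ¬ k ≥ 2 ^ s by omega, Nat.testBit_lt_two_pow h1]
  · obtain ⟨r, rfl⟩ : ∃ r, k = 2 ^ s + r := ⟨k - 2 ^ s, by omega⟩
    rw [Nat.testBit_two_pow_add_eq, Nat.add_sub_cancel_left]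
    by_cases h2 : r < 2 ^ s
    · simp [h2, Nat.testBit_lt_two_pow h2, show 2 ^ s + r < 2 ^ s * 2 by omega]
    · simp [h2, show ¬ 2 ^ s + r < 2 ^ s * 2 by omega]

theorem testBit_zPlane {s : ℕ} (hs : s < wExp) (i : ℕ) :
    (zPlane s).testBit i = (decide (i < 2 ^ wExp) && !i.testBit s) := by
  change (below (2 ^ wExp) ^^^ idPlane s).testBit i = _
  rw [Nat.testBit_xor, testBit_below, testBit_idPlane hs]
  cases decide (i < 2 ^ wExp) <;> cases i.testBit s <;> rfl

theorem good_maskA {s : ℕ} (hs : s < wExp) (L : ℕ) : Good s (maskA s L) := fun i hi => by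
  change (L &&& zPlane s).testBit i = true at hi
  rw [Nat.testBit_and, testBit_zPlane hs] at hi
  simp at hi
  exact ⟨hi.2.2, hi.2.1⟩

theorem good_maskB {s : ℕ} (hs : s < wExp) (L : ℕ) : Good s (maskB s L) := fun i hi => by
  change ((L >>> 2 ^ s) &&& zPlane s).testBit i = true at hi
  rw [Nat.testBit_and, testBit_zPlane hs] at hi
  simp at hi
  exact ⟨hi.2.2, hi.2.1⟩

theorem good_stagesFrom : ∀ (l : List ℕ) (s : ℕ), s + l.length ≤ wExp →
    ∀ p ∈ stagesFrom s l, Good p.1 p.2 ∧ p.1 < wExp
  | [], s, _, p, hp => by simp [stagesFrom] at hp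
  | [L], s, h, p, hp => by
    simp [stagesFrom] at hp
    subst hp
    exact ⟨good_maskA (by simp at h; omega) L, by simp at h; omega⟩
  | L :: L' :: rest, s, h, p, hp => by
    simp only [stagesFrom, List.mem_cons, List.mem_append, List.not_mem_nil, or_false] at hp
    have hs : s < wExp := by simp at h; omega
    rcases hp with rfl | hp | rfl
    · exact ⟨good_maskA hs L, hs⟩
    · exact good_stagesFrom (L' :: rest) (s + 1) (by simp at h ⊢; omega) p hp
    · exact ⟨good_maskB hs L, hs⟩

theorem good_net {N : List (List ℕ)} (hN : lensOK N = true) (g : ℕ) :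
    ∀ p ∈ stagesFrom 0 (N.getD g []), Good p.1 p.2 ∧ p.1 < wExp := by
  refine good_stagesFrom _ 0 ?_
  rw [List.getD_eq_getElem?_getD]
  cases h : N[g]? with
  | none => simp
  | some l =>
    have := List.all_eq_true.1 hN l (List.mem_of_getElem? h)
    simpa using Nat.le_of_ble_eq_true this

theorem testBit_runG {N : List (List ℕ)} (hN : lensOK N = true) (g x i : ℕ) :
    (runG N g x).testBit i = x.testBit ((permG N g)⁻¹ i) :=
  testBit_runS (fun p hp => (good_net hN g p hp).1) x i

theorem permS_lt : ∀ {l : List (ℕ × ℕ)}, (∀ p ∈ l, Good p.1 p.2 ∧ p.1 < wExp) → ∀ {i : ℕ},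
    i < 2 ^ wExp → (permS l)⁻¹ i < 2 ^ wExp
  | [], _, i, hi => hi
  | p :: l, h, i, hi => by
    rw [permS, mul_inv_rev, Equiv.Perm.mul_apply, stagePerm, dif_pos (h p (by simp)).1]
    exact σ_lt (h p (by simp)).1 (h p (by simp)).2 (permS_lt (fun q hq => h q (by simp [hq])) hi)

/-- The permutation of a word on all numbers. -/
noncomputable def permW (N : List (List ℕ)) (w : List ℕ) : Equiv.Perm ℕ := wordVal (permG N) w

theorem permW_nil (N : List (List ℕ)) : permW N [] = 1 := rfl

theorem permW_cons (N : List (List ℕ)) {g : ℕ} (hg : g ≠ eps) (w : List ℕ) :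
    permW N (g :: w) = permW N w * permG N g := by
  simp [permW, wordVal, gen, hg]

theorem testBit_runW {N : List (List ℕ)} (hN : lensOK N = true) : ∀ {w : List ℕ},
    (∀ g ∈ w, g ≠ eps) → ∀ x i : ℕ, (runW N w x).testBit i = x.testBit ((permW N w)⁻¹ i)
  | [], _, x, i => rfl
  | g :: w, h, x, i => by
    show (force (runG N g x) (runW N w)).testBit i = _
    rw [force_eq, testBit_runW hN (fun a ha => h a (by simp [ha])), testBit_runG hN,
      permW_cons N (h g (by simp)), mul_inv_rev, Equiv.Perm.mul_apply]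

theorem permW_lt {N : List (List ℕ)} (hN : lensOK N = true) : ∀ {w : List ℕ},
    (∀ g ∈ w, g ≠ eps) → ∀ {i : ℕ}, i < 2 ^ wExp → (permW N w)⁻¹ i < 2 ^ wExp
  | [], _, i, hi => hi
  | g :: w, h, i, hi => by
    rw [permW_cons N (h g (by simp)), mul_inv_rev, Equiv.Perm.mul_apply]
    exact permS_lt (good_net hN g) (permW_lt hN (fun a ha => h a (by simp [ha])) hi)

/-- A word that fixes all planes fixes all points. -/
theorem permW_fix {N : List (List ℕ)} (hN : lensOK N = true) {r : List ℕ}
    (hr : ∀ g ∈ r, g ≠ eps) (h : ∀ s < wExp, planeOK N r s = true) {i : ℕ}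
    (hi : i < 2 ^ wExp) : permW N r i = i := by
  suffices (permW N r)⁻¹ i = i by
    conv_lhs => rw [← this]
    simp
  have hlt := permW_lt hN hr hi
  refine Nat.eq_of_testBit_eq fun s => ?_
  by_cases hs : s < wExp
  · have h1 := congrArg (fun x => Nat.testBit x i) (Nat.eq_of_beq_eq_true (h s hs))
    rw [testBit_runW hN hr, testBit_idPlane hs, testBit_idPlane hs] at h1
    simp only [decide_eq_true hlt, decide_eq_true hi, Bool.true_and] at h1
    exact h1
  · rw [Nat.testBit_lt_two_pow (hlt.trans_le (Nat.pow_le_pow_right (by norm_num) (by omega))),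
      Nat.testBit_lt_two_pow (hi.trans_le (Nat.pow_le_pow_right (by norm_num) (by omega)))]

theorem permG_lt_iff {N : List (List ℕ)} (hN : lensOK N = true) {n k g : ℕ}
    (h : rangeOK N n k = true) (hg : g < k) (i : ℕ) : (permG N g i < n ↔ i < n) := by
  rw [rangeOK, Bool.and_eq_true] at h
  have h1 := congrArg (fun x => Nat.testBit x (permG N g i))
    (Nat.eq_of_beq_eq_true (List.all_eq_true.1 h.2 g (List.mem_range.2 hg)))
  rw [testBit_runG hN, testBit_below, testBit_below] at h1
  simpa using h1.symm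

open Classical in
/-- The permutation of a generator on `n` points. -/
noncomputable def bperm (N : List (List ℕ)) (n g : ℕ) : Equiv.Perm (Fin n) :=
  if h : ∀ i, permG N g i < n ↔ i < n then
    (Fin.equivSubtype.trans ((permG N g).subtypePerm h)).trans Fin.equivSubtype.symm else 1

theorem bperm_apply {N : List (List ℕ)} (hN : lensOK N = true) {n k g : ℕ}
    (h : rangeOK N n k = true) (hg : g < k) (i : Fin n) :
    (bperm N n g i).1 = permG N g i.1 := by
  rw [bperm, dif_pos (permG_lt_iff hN h hg)]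
  rfl

theorem wordVal_bperm {N : List (List ℕ)} (hN : lensOK N = true) {n k : ℕ}
    (h : rangeOK N n k = true) (hk : k ≤ eps) : ∀ {w : List ℕ}, (∀ g ∈ w, g < k) →
      ∀ i : Fin n, (wordVal (bperm N n) w i).1 = permW N w i.1
  | [], _, i => rfl
  | g :: w, hw, i => by
    have hg : g < k := hw g (by simp)
    rw [permW_cons N (by omega), Equiv.Perm.mul_apply, wordVal, gen, if_neg (by omega),
      Equiv.Perm.mul_apply, wordVal_bperm hN h hk (fun a ha => hw a (by simp [ha])),
      bperm_apply hN h hg]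

theorem wordVal_bperm_eq_one {N : List (List ℕ)} (hN : lensOK N = true) {n k : ℕ}
    (h : rangeOK N n k = true) (hk : k ≤ eps) {R : List (List ℕ)}
    (hR : (R.all fun r => r.all fun g => Nat.blt g k) = true)
    (hp : ∀ s < wExp, planesOK N R s = true) : ∀ r ∈ R, wordVal (bperm N n) r = 1 := by
  intro r hr
  have hlt : ∀ g ∈ r, g < k := fun g hg => by
    simpa [Nat.blt_eq] using List.all_eq_true.1 (List.all_eq_true.1 hR r hr) g hg
  ext i
  rw [Equiv.Perm.one_apply, wordVal_bperm hN h hk hlt]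
  refine permW_fix hN (fun g hg => by have := hlt g hg; omega)
    (fun s hs => List.all_eq_true.1 (hp s hs) r hr) ?_
  rw [rangeOK, Bool.and_eq_true] at h
  exact i.2.trans_le (Nat.le_of_ble_eq_true h.1)

end Cfsg.Lib.BigPerm
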