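import Mathlib
import Cfsg.Agent.Lib.BigPerm.Sound

/-!
# Orbits and sizes of sets given by bits
-/

set_option autoImplicit false

namespace Cfsg.Lib.BigPerm

open Cfsg.Lib.CosetEnum (force force_eq wordVal gen eps wordVal_append)

variable {N : List (List ℕ)} {n k : ℕ}

/-- The points of a number below `n`. -/
def pts (n x : ℕ) : Set (Fin n) := {i | x.testBit i.1 = true}

theorem mem_pts {x : ℕ} {i : Fin n} : i ∈ pts n x ↔ x.testBit i.1 = true := Iff.rfl

theorem testBit_point (p i : ℕ) : (point p).testBit i = decide (i = p) := by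
  change (1 <<< p).testBit i = _
  rw [Nat.one_shiftLeft, Nat.testBit_two_pow]
  simp [eq_comm]

theorem pts_point (p : Fin n) : pts n (point p.1) = {p} := by
  ext i
  simp [mem_pts, testBit_point, Fin.ext_iff]

/-- The image of a set under a word is the set of the number computed. -/
theorem pts_runW (hN : lensOK N = true) (h : rangeOK N n k = true) (hk : k ≤ eps) {w : List ℕ}
    (hw : ∀ g ∈ w, g < k) (x : ℕ) :
    pts n (runW N w x) = (wordVal (bperm N n) w : Equiv.Perm (Fin n)) '' pts n x := by
  have key : ∀ i : Fin n, (runW N w x).testBit (wordVal (bperm N n) w i).1 = x.testBit i.1 := by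
    intro i
    rw [testBit_runW hN (fun g hg => by have := hw g hg; omega), wordVal_bperm hN h hk hw]
    simp
  ext i
  obtain ⟨j, rfl⟩ := (wordVal (bperm N n) w).surjective i
  rw [mem_pts, key, (wordVal (bperm N n) w).injective.mem_set_image, mem_pts]

theorem pts_eq_of_eq (hN : lensOK N = true) (h : rangeOK N n k = true) (hk : k ≤ eps) {w : List ℕ}
    (hw : ∀ g ∈ w, g < k) {x y : ℕ} (hxy : Nat.beq (runW N w x) y = true) :
    (wordVal (bperm N n) w : Equiv.Perm (Fin n)) '' pts n x = pts n y := by
  rw [← pts_runW hN h hk hw, Nat.eq_of_beq_eq_true hxy]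

/-- A word moves a point as computed. -/
theorem wordVal_point (hN : lensOK N = true) (h : rangeOK N n k = true) (hk : k ≤ eps)
    {w : List ℕ} (hw : ∀ g ∈ w, g < k) {p q : Fin n}
    (hpq : Nat.beq (runW N w (point p.1)) (point q.1) = true) :
    wordVal (bperm N n) w p = q := by
  have := pts_eq_of_eq (n := n) hN h hk hw hpq
  rw [pts_point, pts_point, Set.image_singleton, Set.singleton_eq_singleton_iff] at this
  exact this

/-- The group generated by some words. -/
noncomputable def wordsGroup (N : List (List ℕ)) (n : ℕ) (U : List (List ℕ)) :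
    Subgroup (Equiv.Perm (Fin n)) :=
  Subgroup.closure (wordVal (bperm N n) '' {u | u ∈ U})

theorem wordVal_mem_wordsGroup {U : List (List ℕ)} {u : List ℕ} (hu : u ∈ U) :
    wordVal (bperm N n) u ∈ wordsGroup N n U :=
  Subgroup.subset_closure ⟨u, hu, rfl⟩

theorem lettersOK_mem {U : List (List ℕ)} (h : lettersOK k U = true) {u : List ℕ} (hu : u ∈ U) :
    ∀ g ∈ u, g < k := fun g hg => by
  simpa [Nat.blt_eq] using List.all_eq_true.1 (List.all_eq_true.1 h u hu) g hg

theorem grow_sub (hN : lensOK N = true) (h : rangeOK N n k = true) (hk : k ≤ eps) {p : Fin n}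
    {G : Subgroup (Equiv.Perm (Fin n))} : ∀ (U : List (List ℕ)), lettersOK k U = true →
    (∀ u ∈ U, wordVal (bperm N n) u ∈ G) → ∀ x : ℕ, (∀ i ∈ pts n x, ∃ g ∈ G, g p = i) →
      ∀ i ∈ pts n (grow N U x), ∃ g ∈ G, g p = i
  | [], _, _, x, hx => hx
  | u :: U, hl, hG, x, hx => by
    rw [grow, force_eq]
    have hl' : lettersOK k U = true := by
      simp only [lettersOK, List.all_cons, Bool.and_eq_true] at hl ⊢
      exact hl.2
    refine grow_sub hN h hk U hl' (fun v hv => hG v (by simp [hv])) _ fun i hi => ?_
    change (x ||| runW N u x).testBit i.1 = true at hi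
    rw [Nat.testBit_or, Bool.or_eq_true] at hi
    rcases hi with hi | hi
    · exact hx i hi
    · have h2 : i ∈ pts n (runW N u x) := hi
      rw [pts_runW hN h hk (lettersOK_mem hl (by simp))] at h2
      obtain ⟨j, hj, rfl⟩ := h2
      obtain ⟨g, hg, rfl⟩ := hx j hj
      exact ⟨_, G.mul_mem (hG u (by simp)) hg, rfl⟩

theorem reach_sub (hN : lensOK N = true) (h : rangeOK N n k = true) (hk : k ≤ eps) {p : Fin n}
    {G : Subgroup (Equiv.Perm (Fin n))} {U : List (List ℕ)} (hl : lettersOK k U = true)
    (hG : ∀ u ∈ U, wordVal (bperm N n) u ∈ G) : ∀ (m x : ℕ),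
    (∀ i ∈ pts n x, ∃ g ∈ G, g p = i) → ∀ i ∈ pts n (reach N U m x), ∃ g ∈ G, g p = i
  | 0, x, hx => hx
  | m + 1, x, hx => by
    rw [reach, force_eq]
    cases hb : Nat.beq (grow N U x) x with
    | true => exact hx
    | false => exact reach_sub hN h hk hl hG m _ (grow_sub hN h hk U hl hG x hx)

/-- A kept set is invariant. -/
theorem keep_invariant (hN : lensOK N = true) (h : rangeOK N n k = true) (hk : k ≤ eps)
    {U : List (List ℕ)} (hl : lettersOK k U = true) {O : ℕ} (hc : keepOK N U O = true)
    {g : Equiv.Perm (Fin n)} (hg : g ∈ wordsGroup N n U) : g '' pts n O = pts n O := by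
  induction hg using Subgroup.closure_induction with
  | mem a ha =>
    obtain ⟨u, hu, rfl⟩ := ha
    exact pts_eq_of_eq hN h hk (lettersOK_mem hl hu) (List.all_eq_true.1 hc u hu)
  | one => simp
  | mul a b _ _ ha hb => rw [Equiv.Perm.coe_mul, Set.image_comp, hb, ha]
  | inv a _ ha =>
    conv_lhs => rw [← ha]
    rw [← Set.image_comp, ← Equiv.Perm.coe_mul, inv_mul_cancel, Equiv.Perm.coe_one, Set.image_id]

theorem orbit_eq (hN : lensOK N = true) (h : rangeOK N n k = true) (hk : k ≤ eps)
    {U : List (List ℕ)} (hl : lettersOK k U = true) (m : ℕ) (p : Fin n)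
    (hok : orbitOKb N U m p.1 = true) :
    MulAction.orbit (wordsGroup N n U) p = pts n (reach N U m (point p.1)) := by
  rw [orbitOKb, force_eq, Bool.and_eq_true] at hok
  ext i
  constructor
  · rintro ⟨⟨g, hg⟩, rfl⟩
    show g p ∈ _
    rw [← keep_invariant hN h hk hl hok.1 hg]
    exact ⟨p, hok.2, rfl⟩
  · intro hi
    obtain ⟨g, hg, hgi⟩ := reach_sub hN h hk hl (G := wordsGroup N n U) (p := p)
      (fun u hu => wordVal_mem_wordsGroup hu) m (point p.1)
      (fun j hj => by
        rw [pts_point, Set.mem_singleton_iff] at hj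
        exact ⟨1, one_mem _, by simp [hj]⟩) i hi
    exact ⟨⟨g, hg⟩, hgi⟩

theorem byteCount_eq : ∀ x < 256,
    byteCount x = ((Finset.range 8).filter fun i => x.testBit i = true).card := by
  decide +kernel

theorem card_split {m y : ℕ} :
    ((Finset.range (2 ^ (m + 1))).filter fun i => y.testBit i = true).card =
      ((Finset.range (2 ^ m)).filter fun i => (y &&& below (2 ^ m)).testBit i = true).card +
      ((Finset.range (2 ^ m)).filter fun i => (y >>> 2 ^ m).testBit i = true).card := by
  simp only [Finset.card_filter, pow_succ, mul_two, Finset.sum_range_add, Nat.testBit_and,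
    testBit_below, Nat.testBit_shiftRight]
  congr 1
  refine Finset.sum_congr rfl fun i hi => ?_
  simp [Finset.mem_range.1 hi]

theorem count_eq : ∀ (m x : ℕ), x < 2 ^ 2 ^ m →
    count m x = ((Finset.range (2 ^ m)).filter fun i => x.testBit i = true).card
  | 0, x, hx => by
    have : x = 0 ∨ x = 1 := by simp at hx; omega
    rcases this with rfl | rfl <;> decide
  | m + 1, x, hx => by
    rw [count, force_eq]
    cases h0 : Nat.beq x 0 with
    | true =>
      obtain rfl := Nat.eq_of_beq_eq_true h0
      simp
    | false =>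
      rw [cond_false]
      cases h1 : Nat.beq x (below (Nat.pow 2 (m + 1))) with
      | true =>
        obtain rfl := Nat.eq_of_beq_eq_true h1
        rw [cond_true, Finset.filter_true_of_mem fun i hi => ?_, Finset.card_range]
        · rfl
        · rw [testBit_below]
          exact decide_eq_true (Finset.mem_range.1 hi)
      | false =>
        rw [cond_false]
        cases h2 : Nat.beq m 2 with
        | true =>
          obtain rfl := Nat.eq_of_beq_eq_true h2
          rw [cond_true, byteCount_eq x (by simpa using hx)]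
          rfl
        | false =>
          rw [cond_false, card_split]
          have ha : x &&& below (2 ^ m) < 2 ^ 2 ^ m :=
            Nat.and_lt_two_pow _ (Nat.sub_lt (Nat.two_pow_pos _) (by norm_num))
          have hb : x >>> 2 ^ m < 2 ^ 2 ^ m := by
            rw [Nat.shiftRight_eq_div_pow, Nat.div_lt_iff_lt_mul (Nat.two_pow_pos _), ← pow_add,
              ← two_mul, ← pow_succ']
            exact hx
          exact congrArg₂ (· + ·) (count_eq m _ ha) (count_eq m _ hb)

theorem ncard_pts {x c : ℕ} (h : countOK n x c = true) : (pts n x).ncard = c := by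
  rw [countOK, Bool.and_eq_true] at h
  obtain ⟨hn, hc⟩ := h
  replace hn : n ≤ 2 ^ wExp := Nat.le_of_ble_eq_true hn
  rw [← Nat.eq_of_beq_eq_true hc, count_eq]
  · rw [← Set.ncard_coe_finset, ← Set.ncard_image_of_injective (pts n x) Fin.val_injective]
    congr 1
    ext i
    simp only [Finset.coe_filter, Finset.mem_range, Set.mem_image, Set.mem_setOf_eq, mem_pts]
    change _ ↔ i < 2 ^ wExp ∧ (x &&& below n).testBit i = true
    rw [Nat.testBit_and, testBit_below]
    constructor
    · rintro ⟨j, hj, rfl⟩
      exact ⟨j.2.trans_le hn, by simp [hj]⟩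
    · intro hi
      simp at hi
      exact ⟨⟨i, hi.2.2⟩, hi.2.1, rfl⟩
  · exact Nat.and_lt_two_pow _ ((Nat.sub_lt (Nat.two_pow_pos _) (by norm_num)).trans_le
      (Nat.pow_le_pow_right (by norm_num) hn))

end Cfsg.Lib.BigPerm
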