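import Mathlib
import Cfsg.Agent.Lib.BigPerm.Sets

/-!
# Lower bounds on orders from checked orbits
-/

set_option autoImplicit false

namespace Cfsg.Lib.BigPerm

open Cfsg.Lib.CosetEnum (force force_eq wordVal gen eps wordVal_append beqW beqW_eq)

variable {N : List (List ℕ)} {n k : ℕ}

/-- The points of a set lie in one orbit of a group. -/
def InOrbit (G : Subgroup (Equiv.Perm (Fin n))) (p : Fin n) (x : ℕ) : Prop :=
  ∀ i ∈ pts n x, ∃ g ∈ G, g p = i

theorem inOrbit_point (G : Subgroup (Equiv.Perm (Fin n))) (p : Fin n) :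
    InOrbit G p (point p.1) := fun i hi => by
  rw [pts_point, Set.mem_singleton_iff] at hi
  exact ⟨1, one_mem _, by simp [hi]⟩

theorem InOrbit.mono {G G' : Subgroup (Equiv.Perm (Fin n))} (h : G ≤ G') {p : Fin n} {x : ℕ}
    (hx : InOrbit G p x) : InOrbit G' p x := fun i hi => by
  obtain ⟨g, hg, hgi⟩ := hx i hi
  exact ⟨g, h hg, hgi⟩

theorem InOrbit.grown (hN : lensOK N = true) (h : rangeOK N n k = true) (hk : k ≤ eps)
    {G : Subgroup (Equiv.Perm (Fin n))} {p : Fin n} {S T : ℕ} (hS : InOrbit G p S)
    {U : List (List ℕ)} (hl : lettersOK k U = true)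
    (hG : ∀ u ∈ U, wordVal (bperm N n) u ∈ G) (hT : grownOK N U S T = true) :
    InOrbit G p T := by
  intro i hi
  rw [grownOK, force_eq] at hT
  have h1 := congrArg (fun x => Nat.testBit x i.1) (Nat.eq_of_beq_eq_true hT)

  change (T &&& grow N U S).testBit i.1 = T.testBit i.1 at h1
  rw [Nat.testBit_and, show T.testBit i.1 = true from hi, Bool.true_and] at h1
  exact grow_sub hN h hk U hl hG S hS i h1

theorem InOrbit.ncard_le {G : Subgroup (Equiv.Perm (Fin n))} {p : Fin n} {T c : ℕ}
    (hT : InOrbit G p T) (hc : countOK n T c = true) :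
    c ≤ (MulAction.orbit G p).ncard := by
  rw [← ncard_pts hc]
  refine Set.ncard_le_ncard (fun i hi => ?_) (Set.toFinite _)
  obtain ⟨g, hg, rfl⟩ := hT i hi
  exact ⟨⟨g, hg⟩, rfl⟩

/-- A subgroup fixing a point and an orbit bound give an order bound. -/
theorem card_ge {G K : Subgroup (Equiv.Perm (Fin n))} (hKG : K ≤ G) {p : Fin n}
    (hfix : ∀ g ∈ K, g p = p) {c m : ℕ} (hc : c ≤ (MulAction.orbit G p).ncard)
    (hm : m ≤ Nat.card K) : c * m ≤ Nat.card G := by
  rw [← Subgroup.card_mul_index (MulAction.stabilizer G p), MulAction.index_stabilizer,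
    mul_comm c]
  refine Nat.mul_le_mul (hm.trans ?_) hc
  refine Nat.card_le_card_of_injective (fun a : K => (⟨⟨a.1, hKG a.2⟩, hfix a.1 a.2⟩ :
    MulAction.stabilizer G p)) fun a b hab => ?_
  exact Subtype.ext (congrArg (fun z : MulAction.stabilizer G p => (z.1 : Equiv.Perm (Fin n))) hab)

/-- Words fixing a point generate a group fixing it. -/
theorem fixes_of_keep (hN : lensOK N = true) (h : rangeOK N n k = true) (hk : k ≤ eps)
    {U : List (List ℕ)} (hl : lettersOK k U = true) {p : Fin n}
    (hc : keepOK N U (point p.1) = true) : ∀ g ∈ wordsGroup N n U, g p = p := fun g hg => by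
  have := keep_invariant (n := n) hN h hk hl hc hg
  rwa [pts_point, Set.image_singleton, Set.singleton_eq_singleton_iff] at this

theorem wordVal_reverse_mul {M : Type*} [Group M] (x : ℕ → M) : ∀ w : List ℕ,
    (∀ g ∈ w, gen x g * gen x g = 1) → wordVal x w.reverse = (wordVal x w)⁻¹
  | [], _ => by simp [wordVal]
  | g :: w, h => by
    rw [List.reverse_cons, wordVal_append, wordVal_reverse_mul x w (fun a ha => h a (by simp [ha]))]
    simp only [wordVal, one_mul]
    rw [mul_inv_rev, inv_eq_of_mul_eq_one_left (h g (by simp))]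

theorem composed_mem (U : List (List ℕ)) {u : List ℕ} {s : List (ℕ × Bool)}
    (h : composedOK U u s = true)
    (hinv : ∀ v ∈ U, ∀ g ∈ v, gen (bperm N n) g * gen (bperm N n) g = 1) :
    wordVal (bperm N n) u ∈ wordsGroup N n U := by
  rw [composedOK, Bool.and_eq_true] at h
  rw [beqW_eq h.2]
  have hs := h.1
  clear h
  induction s with
  | nil => exact one_mem _
  | cons p s ih =>
    rw [List.all_cons, Bool.and_eq_true] at hs
    rw [List.map_cons, List.flatten_cons, wordVal_append]
    refine mul_mem (ih hs.2) ?_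
    have hp : p.1 < U.length := by simpa [Nat.blt_eq] using hs.1
    have hmem : U.getD p.1 [] ∈ U := by
      rw [List.getD_eq_getElem?_getD, List.getElem?_eq_getElem hp]
      exact List.getElem_mem hp
    cases p.2 with
    | false => exact wordVal_mem_wordsGroup hmem
    | true =>
      show wordVal _ (U.getD p.1 []).reverse ∈ _
      rw [wordVal_reverse_mul _ _ (hinv _ hmem)]
      exact inv_mem (wordVal_mem_wordsGroup hmem)

theorem wordsGroup_le (U : List (List ℕ))
    (hinv : ∀ v ∈ U, ∀ g ∈ v, gen (bperm N n) g * gen (bperm N n) g = 1) :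
    ∀ (V : List (List ℕ)) (ss : List (List (ℕ × Bool))), composedAllOK U V ss = true →
      wordsGroup N n V ≤ wordsGroup N n U := by
  intro V ss h
  rw [wordsGroup, Subgroup.closure_le]
  rintro _ ⟨v, hv, rfl⟩
  induction V generalizing ss with
  | nil => simp at hv
  | cons u V ih =>
    cases ss with
    | nil => simp [composedAllOK] at h
    | cons s ss =>
      rw [composedAllOK, Bool.and_eq_true] at h
      rcases List.mem_cons.1 hv with rfl | hv
      · exact composed_mem U h.1 hinv
      · exact ih ss h.2 hv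

end Cfsg.Lib.BigPerm

namespace Cfsg.Lib.BigPerm

open Cfsg.Lib.CosetEnum (force force_eq wordVal eps)

variable {N : List (List ℕ)} {n k : ℕ}

/-- A property kept by some words holds on the sets grown by them. -/
theorem grow_pred (hN : lensOK N = true) (h : rangeOK N n k = true) (hk : k ≤ eps)
    {Q : Fin n → Prop} : ∀ (U : List (List ℕ)), lettersOK k U = true →
    (∀ u ∈ U, ∀ i, Q i → Q (wordVal (bperm N n) u i)) → ∀ x : ℕ, (∀ i ∈ pts n x, Q i) →
      ∀ i ∈ pts n (grow N U x), Q i
  | [], _, _, x, hx => hx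
  | u :: U, hl, hQ, x, hx => by
    rw [grow, force_eq]
    have hl' : lettersOK k U = true := by
      simp only [lettersOK, List.all_cons, Bool.and_eq_true] at hl ⊢
      exact hl.2
    refine grow_pred hN h hk U hl' (fun v hv => hQ v (by simp [hv])) _ fun i hi => ?_
    change (x ||| runW N u x).testBit i.1 = true at hi
    rw [Nat.testBit_or, Bool.or_eq_true] at hi
    rcases hi with hi | hi
    · exact hx i hi
    · have h2 : i ∈ pts n (runW N u x) := hi
      rw [pts_runW hN h hk (lettersOK_mem hl (by simp))] at h2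
      obtain ⟨j, hj, rfl⟩ := h2
      exact hQ u (by simp) j (hx j hj)

theorem reach_pred (hN : lensOK N = true) (h : rangeOK N n k = true) (hk : k ≤ eps)
    {Q : Fin n → Prop} {U : List (List ℕ)} (hl : lettersOK k U = true)
    (hQ : ∀ u ∈ U, ∀ i, Q i → Q (wordVal (bperm N n) u i)) : ∀ (m x : ℕ),
    (∀ i ∈ pts n x, Q i) → ∀ i ∈ pts n (reach N U m x), Q i
  | 0, x, hx => hx
  | m + 1, x, hx => by
    rw [reach, force_eq]
    cases hb : Nat.beq (grow N U x) x with
    | true => exact hx
    | false => exact reach_pred hN h hk hl hQ m _ (grow_pred hN h hk U hl hQ x hx)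

theorem grown_pred (hN : lensOK N = true) (h : rangeOK N n k = true) (hk : k ≤ eps)
    {Q : Fin n → Prop} {U : List (List ℕ)} (hl : lettersOK k U = true)
    (hQ : ∀ u ∈ U, ∀ i, Q i → Q (wordVal (bperm N n) u i)) {S T : ℕ}
    (hS : ∀ i ∈ pts n S, Q i) (hT : grownOK N U S T = true) : ∀ i ∈ pts n T, Q i := by
  intro i hi
  rw [grownOK, force_eq] at hT
  have h1 := congrArg (fun x => Nat.testBit x i.1) (Nat.eq_of_beq_eq_true hT)
  change (T &&& grow N U S).testBit i.1 = T.testBit i.1 at h1
  rw [Nat.testBit_and, show T.testBit i.1 = true from hi, Bool.true_and] at h1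
  exact grow_pred hN h hk U hl hQ S hS i h1

end Cfsg.Lib.BigPerm
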